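import Mathlib

/-!
# Quasi-finite slices through a point closed in its fibre (locally Noetherian case)
-/

universe u

open AlgebraicGeometry CategoryTheory IsLocalRing

namespace Groth.Agent.SliceQF

set_option autoImplicit false

/-- In a Noetherian local ring, a non-maximal prime avoiding `g` lies under one which is covered by
the maximal ideal. -/
theorem exists_prime_covered {O : Type u} [CommRing O] [IsLocalRing O] [IsNoetherianRing O]
    (P : Ideal O) [P.IsPrime] (g : O) (hg : g ∉ P) (hP : P ≠ maximalIdeal O) :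
    ∃ p : Ideal O, p.IsPrime ∧ P ≤ p ∧ g ∉ p ∧ p ≠ maximalIdeal O ∧
      ∀ q : Ideal O, q.IsPrime → p ≤ q → q = p ∨ q = maximalIdeal O := by
  classical
  obtain ⟨p, ⟨hp, hPp, hgp, hpm⟩, hmax⟩ := set_has_maximal_iff_noetherian.mpr ‹IsNoetherianRing O›
    {p : Ideal O | p.IsPrime ∧ P ≤ p ∧ g ∉ p ∧ p ≠ maximalIdeal O} ⟨P, ‹P.IsPrime›, le_rfl, hg, hP⟩
  refine ⟨p, hp, hPp, hgp, hpm, fun q hq hpq => ?_⟩
  by_contra h
  obtain ⟨hqp, hqm⟩ := not_or.mp h
  haveI := hp
  haveI := hq
  let π := Ideal.Quotient.mk p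
  haveI : Nontrivial (O ⧸ p) := Ideal.Quotient.nontrivial_iff.mpr hp.ne_top
  haveI : IsLocalRing (O ⧸ p) := .of_surjective' π Ideal.Quotient.mk_surjective
  have hg0 : π g ≠ 0 := by rwa [Ne, Ideal.Quotient.eq_zero_iff_mem]
  -- every prime strictly between `⊥` and the maximal ideal contains `g`
  have hmid : ∀ T : Ideal (O ⧸ p), T.IsPrime → T ≠ ⊥ → T ≠ maximalIdeal _ → π g ∈ T := by
    intro T hT hT0 hTm
    by_contra hgT
    haveI := hT
    have hle : p ≤ T.comap π := fun a ha => by
      rw [Ideal.mem_comap, Ideal.Quotient.eq_zero_iff_mem.mpr ha]; exact T.zero_mem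
    have hne : p ≠ T.comap π := fun e => hT0 (by
      rw [← Ideal.map_comap_of_surjective π Ideal.Quotient.mk_surjective T, ← e,
        Ideal.map_quotient_self])
    refine hmax (T.comap π) ⟨Ideal.comap_isPrime π T, hPp.trans hle, hgT, fun e => hTm ?_⟩
      (lt_of_le_of_ne hle hne)
    have : T.IsMaximal := by
      rw [← Ideal.map_comap_of_surjective π Ideal.Quotient.mk_surjective T, e]
      exact Ideal.IsMaximal.map_of_surjective_of_ker_le Ideal.Quotient.mk_surjective
        (by rw [Ideal.mk_ker]; exact le_maximalIdeal hp.ne_top)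
    exact eq_maximalIdeal this
  -- a prime strictly between
  let q' := q.map π
  have hker : RingHom.ker π ≤ q := by rwa [Ideal.mk_ker]
  haveI hq' : q'.IsPrime := Ideal.map_isPrime_of_surjective Ideal.Quotient.mk_surjective hker
  have hcq : q'.comap π = q := by
    rw [Ideal.comap_map_of_surjective' π Ideal.Quotient.mk_surjective, sup_eq_left.mpr hker]
  have hq0 : q' ≠ ⊥ := fun e => hqp (by
    rw [← hcq, e]; exact Ideal.mk_ker)
  have hqm' : q' ≠ maximalIdeal _ := fun e => hqm (by
    rw [← hcq, e]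
    exact eq_maximalIdeal
      (Ideal.comap_isMaximal_of_surjective π Ideal.Quotient.mk_surjective (H := maximalIdeal.isMaximal _)))
  have hlt : q' < maximalIdeal _ := lt_of_le_of_ne (le_maximalIdeal hq'.ne_top) hqm'
  have h2 : 2 ≤ (maximalIdeal (O ⧸ p)).height := by
    have h1 : 1 ≤ q'.height := by
      rw [Order.one_le_iff_pos, pos_iff_ne_zero, Ne, Ideal.height_eq_zero_iff_eq_bot]
      exact hq0
    calc (2 : ℕ∞) = 1 + 1 := rfl
      _ ≤ q'.height + 1 := add_le_add_left h1 1
      _ ≤ _ := Ideal.height_add_one_le_of_lt_of_isPrime hlt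
  have key : ∀ x ∈ maximalIdeal (O ⧸ p), ∃ T ∈ (Ideal.span {π g}).minimalPrimes, x ∈ T := by
    intro x hx
    by_cases hx0 : x = 0
    · obtain ⟨T, hT, -⟩ := Ideal.exists_minimalPrimes_le (I := Ideal.span {π g}) (J := q')
        ((Ideal.span_singleton_le_iff_mem _).mpr (hmid q' hq' hq0 hqm'))
      exact ⟨T, hT, hx0 ▸ T.zero_mem⟩
    obtain ⟨T, hT, hTle⟩ := Ideal.exists_minimalPrimes_le (I := Ideal.span {x})
      (J := maximalIdeal (O ⧸ p)) ((Ideal.span_singleton_le_iff_mem _).mpr hx)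
    haveI := hT.1.1
    have hxT : x ∈ T := hT.1.2 (Ideal.mem_span_singleton_self x)
    have hT1 : T.height ≤ 1 := Ideal.height_le_one_of_isPrincipal_of_mem_minimalPrimes _ _ hT
    have hTm : T ≠ maximalIdeal _ := fun e => by
      rw [e] at hT1
      exact absurd (h2.trans hT1) (by decide)
    have hT0 : T ≠ ⊥ := fun e => hx0 (by rw [e, Ideal.mem_bot] at hxT; exact hxT)
    refine ⟨T, ⟨⟨hT.1.1, (Ideal.span_singleton_le_iff_mem _).mpr (hmid T hT.1.1 hT0 hTm)⟩, ?_⟩,
      hxT⟩
    rintro T' ⟨hT'p, hgT'⟩ hle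
    by_contra hnle
    haveI := hT'p
    have hT'0 : T' ≠ ⊥ := fun e => hg0 (by
      have := hgT' (Ideal.mem_span_singleton_self (π g))
      rwa [e, Ideal.mem_bot] at this)
    have h3 : 1 ≤ T'.height := by
      rw [Order.one_le_iff_pos, pos_iff_ne_zero, Ne, Ideal.height_eq_zero_iff_eq_bot]
      exact hT'0
    have h4 : T'.height + 1 ≤ T.height :=
      Ideal.height_add_one_le_of_lt_of_isPrime (lt_of_le_not_ge hle hnle)
    exact absurd ((add_le_add_left h3 1).trans (h4.trans hT1)) (by decide)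
  have hfin : (Ideal.span {π g}).minimalPrimes.Finite := Ideal.finite_minimalPrimes_of_isNoetherianRing _ _
  have hsub : (maximalIdeal (O ⧸ p) : Set (O ⧸ p)) ⊆
      ⋃ T ∈ (hfin.toFinset : Set (Ideal (O ⧸ p))), (T : Set (O ⧸ p)) := fun x hx => by
    obtain ⟨T, hT, hxT⟩ := key x hx
    exact Set.mem_biUnion (by simpa using hT) hxT
  obtain ⟨T, hT, hle⟩ := (Ideal.subset_union_prime ⊥ ⊥ fun T hT _ _ =>
    (hfin.mem_toFinset.mp hT).1.1).mp hsub
  have hT' := hfin.mem_toFinset.mp hT
  haveI := hT'.1.1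
  have h5 : T.height ≤ 1 := Ideal.height_le_one_of_isPrincipal_of_mem_minimalPrimes _ _ hT'
  exact absurd (h2.trans ((Ideal.height_mono hle).trans h5)) (by decide)

/-- A point specialised to by some point of an open set off the fibre lies on a quasi-finite slice
meeting this open set, provided it is closed in its fibre and the scheme is locally Noetherian. -/
theorem exists_slice {X S : Scheme.{u}} (f : X ⟶ S) [LocallyOfFiniteType f] [IsLocallyNoetherian S]
    (x : X) (hcl : IsClosed (Subtype.val ⁻¹' {x} : Set ↑(f ⁻¹' {f x}))) (U : X.Opens)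
    (hx' : ∃ x' : X, x' ∈ U ∧ x' ⤳ x ∧ f x' ≠ f x) :
    ∃ (I : X.IdealSheafData) (z₀ x₀ : ↑I.subscheme), I.subschemeι x₀ = x ∧
      (I.subschemeι ≫ f).QuasiFiniteAt x₀ ∧
      I.subschemeι z₀ ∈ U ∧ I.subschemeι z₀ ⤳ x ∧ f (I.subschemeι z₀) ≠ f x := by
  haveI : IsLocallyNoetherian X := LocallyOfFiniteType.isLocallyNoetherian f
  obtain ⟨x', hx'U, hsp, hne⟩ := hx'
  have hmax : ∀ y, x ⤳ y → f y = f x → y = x := fun y hy hfy => by
    have h1 : (⟨x, rfl⟩ : ↑(f ⁻¹' {f x})) ⤳ ⟨y, hfy⟩ :=
      (Topology.IsInducing.subtypeVal.specializes_iff).mp hy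
    exact h1.mem_closed hcl rfl
  -- shrink the open set off the closure of the image point
  let U' : Set X := (U : Set X) ∩ f ⁻¹' (closure {f x})ᶜ
  have hU' : IsOpen U' := U.2.inter (isClosed_closure.isOpen_compl.preimage f.continuous)
  have hx'U' : x' ∈ U' := ⟨hx'U, fun e => hne
    (((hsp.map f.continuous).antisymm (specializes_iff_mem_closure.mpr e)).eq)⟩
  let ρ : PrimeSpectrum (X.presheaf.stalk x) → X := fun a => X.fromSpecStalk x a
  have hρ : Topology.IsEmbedding ρ := (X.fromSpecStalk x).isEmbedding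
  have hρm : ρ (closedPoint _) = x := Scheme.fromSpecStalk_closedPoint
  obtain ⟨a', ha'⟩ : ∃ a, ρ a = x' := by
    have : x' ∈ Set.range (X.fromSpecStalk x) := by rw [Scheme.range_fromSpecStalk]; exact hsp
    exact this
  obtain ⟨-, ⟨g, rfl⟩, hga', hgU⟩ := (PrimeSpectrum.isTopologicalBasis_basic_opens
    (R := X.presheaf.stalk x)).exists_subset_of_mem_open
    (show a' ∈ ρ ⁻¹' U' by rw [Set.mem_preimage, ha']; exact hx'U') (hU'.preimage hρ.continuous)
  obtain ⟨p, hp, hPp, hgp, hpm, hcov⟩ := exists_prime_covered a'.asIdeal g hga' (fun e => hne (by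
    rw [← ha', show a' = closedPoint _ from PrimeSpectrum.ext e, hρm]))
  let a : PrimeSpectrum (X.presheaf.stalk x) := ⟨p, hp⟩
  let z := ρ a
  have hzU : z ∈ U' := hgU hgp
  have hzx : z ⤳ x := hρm ▸ (specializes_closedPoint a).map hρ.continuous
  have hzne : f z ≠ f x := fun e => hzU.2 (by rw [e]; exact subset_closure rfl)
  let I : X.IdealSheafData := Scheme.IdealSheafData.vanishingIdeal ⟨closure {z}, isClosed_closure⟩
  have hrange : Set.range I.subschemeι = closure {z} := by
    rw [Scheme.IdealSheafData.range_subschemeι, Scheme.IdealSheafData.coe_support_vanishingIdeal]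
    rfl
  obtain ⟨z₀, hz₀⟩ : ∃ z₀, I.subschemeι z₀ = z := by
    have : z ∈ Set.range I.subschemeι := hrange ▸ subset_closure rfl
    exact this
  obtain ⟨x₀, hx₀⟩ : ∃ x₀, I.subschemeι x₀ = x := by
    have : x ∈ Set.range I.subschemeι := hrange ▸ specializes_iff_mem_closure.mp hzx
    exact this
  refine ⟨I, z₀, x₀, hx₀, ?_, hz₀ ▸ hzU.1, hz₀ ▸ hzx, hz₀ ▸ hzne⟩
  -- `x` is isolated in its fibre within the slice
  set h : I.subscheme ⟶ S := I.subschemeι ≫ f with hh
  rw [Scheme.Hom.quasiFiniteAt_iff_isOpen_singleton_asFiber]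
  haveI : LocallyOfFiniteType h := by rw [hh]; infer_instance
  haveI : LocallyOfFiniteType (h.fiberToSpecResidueField (h x₀)) := by
    exact MorphismProperty.pullback_snd h _ ‹LocallyOfFiniteType h›
  haveI : IsLocallyNoetherian (h.fiber (h x₀)) :=
    LocallyOfFiniteType.isLocallyNoetherian (h.fiberToSpecResidueField (h x₀))
  have hemb : Topology.IsEmbedding (fun y => I.subschemeι (h.fiberι (h x₀) y)) :=
    I.subschemeι.isEmbedding.comp (h.fiberι (h x₀)).isEmbedding
  have hfib : ∀ y, f (I.subschemeι (h.fiberι (h x₀) y)) = f x := fun y => by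
    have h1 : h (h.fiberι (h x₀) y) = h x₀ := (h.fiberHomeo (h x₀) y).2
    exact h1.trans (congrArg f hx₀)
  have hι0 : I.subschemeι (h.fiberι (h x₀) (h.asFiber x₀)) = x := by
    rw [Scheme.Hom.fiberι_asFiber, hx₀]
  have hmem : ∀ y, z ⤳ I.subschemeι (h.fiberι (h x₀) y) := fun y =>
    specializes_iff_mem_closure.mpr (hrange ▸ Set.mem_range_self _)
  -- no other point of this fibre is comparable to it
  have hgen : ∀ y, y ⤳ h.asFiber x₀ → y = h.asFiber x₀ := fun y hy => by
    apply hemb.injective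
    show I.subschemeι (h.fiberι (h x₀) y) = I.subschemeι (h.fiberι (h x₀) (h.asFiber x₀))
    rw [hι0]
    have hyx : I.subschemeι (h.fiberι (h x₀) y) ⤳ x :=
      hι0 ▸ hy.map hemb.continuous
    obtain ⟨b, hb⟩ : ∃ b, ρ b = I.subschemeι (h.fiberι (h x₀) y) := by
      have : I.subschemeι (h.fiberι (h x₀) y) ∈ Set.range (X.fromSpecStalk x) := by
        rw [Scheme.range_fromSpecStalk]; exact hyx
      exact this
    rw [← hb]
    rcases hcov b.asIdeal b.2 ((PrimeSpectrum.le_iff_specializes a b).mpr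
        (hρ.isInducing.specializes_iff.mp (hb ▸ hmem y))) with e | e
    · exfalso
      refine hzne ?_
      rw [show z = ρ b from congrArg ρ (PrimeSpectrum.ext e.symm), hb]
      exact hfib y
    · rw [show b = closedPoint _ from PrimeSpectrum.ext e, hρm]
  have hclosed : IsClosed ({h.asFiber x₀} : Set (h.fiber (h x₀))) := by
    rw [isClosed_iff_nhds]
    intro y hy
    rw [Set.mem_singleton_iff]
    have hxy : h.asFiber x₀ ⤳ y := by
      refine specializes_iff_forall_open.mpr fun O hO hyO => ?_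
      obtain ⟨w, hwO, hw⟩ := hy O (hO.mem_nhds hyO)
      exact (Set.mem_singleton_iff.mp hw) ▸ hwO
    exact hemb.injective ((hmax _ (hι0 ▸ hxy.map hemb.continuous) (hfib y)).trans hι0.symm)
  obtain ⟨W, hW, hxW, -⟩ := exists_isAffineOpen_mem_and_subset (x := h.asFiber x₀) (U := ⊤) trivial
  haveI : IsNoetherianRing Γ(h.fiber (h x₀), W) := IsLocallyNoetherian.component_noetherian ⟨W, hW⟩
  let ι : PrimeSpectrum Γ(h.fiber (h x₀), W) → h.fiber (h x₀) := fun p => hW.fromSpec p
  have hι : Topology.IsOpenEmbedding ι := hW.fromSpec.isOpenEmbedding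
  have hc : Topology.IsConstructible (ι ⁻¹' {h.asFiber x₀}) :=
    compl_compl (ι ⁻¹' {h.asFiber x₀}) ▸ ((TopologicalSpace.NoetherianSpace.isCompact _).isConstructible
      (hclosed.preimage hι.continuous).isOpen_compl).compl
  have hopen : IsOpen (ι ⁻¹' {h.asFiber x₀}) := by
    refine PrimeSpectrum.isOpen_of_stableUnderGeneralization_of_isConstructible ?_ hc
    intro b c hcb hb
    rw [Set.mem_preimage, Set.mem_singleton_iff] at hb ⊢
    exact hgen _ (hb ▸ hcb.map hι.continuous)
  have := hι.isOpenMap _ hopen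
  rwa [Set.image_preimage_eq_inter_range, show Set.range ι = (W : Set _) from hW.range_fromSpec,
    Set.inter_eq_left.mpr (Set.singleton_subset_iff.mpr hxW)] at this

end Groth.Agent.SliceQF
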